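import Groth.Agent.NormUPLib.Char
import Groth.Agent.S5949
import Groth.Agent.EtAlgEasy.SmoothStalkProps
import Mathlib

/-!
Normalisation of integral schemes commutes with smooth base change.
-/

set_option autoImplicit false
set_option linter.style.haveILetI false
set_option backward.isDefEq.respectTransparency false

universe u

open CategoryTheory CategoryTheory.Limits AlgebraicGeometry TopologicalSpace

noncomputable section

namespace Groth.Agent.SmoothNormLib

theorem exists_factor {N : Scheme.{u}} (n : N) {F : Type u} [Field F] (c : Spec (.of F) ⟶ N)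
    (hc : c (IsLocalRing.closedPoint F) = n) :
    ∃ α : N.residueField n ⟶ .of F, c = Spec.map α ≫ N.fromSpecResidueField n := by
  subst hc
  exact ⟨_, (Scheme.descResidueField_stalkClosedPointTo_fromSpecResidueField F N c).symm⟩

theorem eq_of_comp_eq {N Y : Scheme.{u}} (ι : N ⟶ Y) (n : N) [Epi (ι.residueFieldMap n)] {F : Type u} [Field F]
    (a b : Spec (.of F) ⟶ N) (ha : ∀ z, a z = n) (hb : ∀ z, b z = n) (h : a ≫ ι = b ≫ ι) : a = b := by
  obtain ⟨α, rfl⟩ := exists_factor n a (ha _)
  obtain ⟨β, rfl⟩ := exists_factor n b (hb _)
  congr 2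
  rw [Category.assoc, Category.assoc, ← Scheme.Hom.SpecMap_residueFieldMap_fromSpecResidueField,
    ← Spec.map_comp_assoc, ← Spec.map_comp_assoc, cancel_mono, Spec.map_inj, cancel_epi] at h
  exact h

theorem main {X Y : Scheme.{u}} (f : X ⟶ Y) [Smooth f] [IsIntegral X] [IsIntegral Y]
    [QuasiCompact (X.fromSpecStalk (genericPoint X))] [QuasiSeparated (X.fromSpecStalk (genericPoint X))]
    [QuasiCompact (Y.fromSpecStalk (genericPoint Y))] [QuasiSeparated (Y.fromSpecStalk (genericPoint Y))] :
    ∃ e : pullback f (Curv2.normalizationι Y) ≅ Curv2.normalization X,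
      e.hom ≫ Curv2.normalizationι X = pullback.fst f (Curv2.normalizationι Y) := by
  obtain ⟨_, hN, hpre, hiso⟩ := NormUPLib.generic_facts (X := Y)
  set ι := Curv2.normalizationι Y with hιdef
  set n := genericPoint ↥(Curv2.normalization Y) with hn
  haveI : IsIntegralHom ι := by rw [hιdef]; unfold Curv2.normalizationι; infer_instance
  let p := pullback.fst f ι
  let q := pullback.snd f ι
  refine (S5949.result X p).2 ⟨?_, inferInstance, ?_⟩
  · intro z
    exact (EtAlgEasy.SmoothStalk.normal_iff q (by rw [q.smoothLocus_eq_top]; trivial)).2 (hN _)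
  · have hfξ : f (genericPoint X) = genericPoint Y := by
      obtain ⟨w, hw, hgw⟩ := show ∃ w, w ∈ (⊤ : X.Opens) ∧ f w ∈ Set.range f from ⟨genericPoint X, trivial, genericPoint X, rfl⟩
      have hopen : IsOpen (Set.range f) := f.isOpenMap.isOpen_range
      have hgen : genericPoint Y ∈ Set.range f :=
        ((genericPoint_spec Y).mem_open_set_iff hopen).2 ⟨f (genericPoint X), trivial, genericPoint X, rfl⟩
      obtain ⟨x, hx⟩ := hgen
      have hs : genericPoint X ⤳ x := genericPoint_specializes x
      exact ((genericPoint_specializes (f (genericPoint X))).antisymm (hx ▸ hs.map f.continuous)).symm.eq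
    haveI : IsIso (ι.residueFieldMap n) := by
      haveI := hiso
      refine (ConcreteCategory.isIso_iff_bijective _).2 ⟨RingHom.injective _, fun a => ?_⟩
      obtain ⟨b, rfl⟩ := Scheme.residue_surjective _ _ a
      obtain ⟨c, rfl⟩ := ((ConcreteCategory.isIso_iff_bijective (ι.stalkMap n)).1 hiso).2 b
      exact ⟨Y.residue _ c, congr($(Scheme.residue_residueFieldMap ι n) c)⟩
    have hιn : ι n = genericPoint Y := by
      have : n ∈ ι.base ⁻¹' {genericPoint ↥Y} := by rw [hpre]; rfl
      exact this
    have hq : ∀ z : ↥(pullback f ι : Scheme.{u}), f (p z) = genericPoint Y → q z = n := fun z hz => by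
      have h1 : ι (q z) = genericPoint Y := by
        rw [← Scheme.Hom.comp_apply, ← pullback.condition, Scheme.Hom.comp_apply]
        exact hz
      have h2 : q z ∈ ι.base ⁻¹' {genericPoint ↥Y} := h1
      rw [hpre] at h2
      exact h2
    -- the point of `(pullback f ι : Scheme.{u})` over a point of the generic fibre
    have key : ∀ x : X, f x = genericPoint Y → ∃ z₀ : ↥(pullback f ι : Scheme.{u}), p z₀ = x ∧
        ∀ z : ↥(pullback f ι : Scheme.{u}), p z = x → z = z₀ ∧ Function.Surjective (p.residueFieldMap z) := by
      intro x hx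
      let s := f.residueFieldMap x
      let t : Spec (X.residueField x) ⟶ Curv2.normalization Y :=
        Spec.map ((Y.residueFieldCongr (hx.trans hιn.symm).symm).hom ≫ s) ≫
          Spec.map (inv (ι.residueFieldMap n)) ≫ (Curv2.normalization Y).fromSpecResidueField n
      have ht : t ≫ ι = X.fromSpecResidueField x ≫ f := by
        simp only [t, Category.assoc]
        rw [← Scheme.Hom.SpecMap_residueFieldMap_fromSpecResidueField ι n, ← Spec.map_comp_assoc (ι.residueFieldMap n),
          IsIso.hom_inv_id, Spec.map_id, Category.id_comp, Spec.map_comp, Category.assoc,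
          Scheme.residueFieldCongr_fromSpecResidueField, Scheme.Hom.SpecMap_residueFieldMap_fromSpecResidueField]
      let l : Spec (X.residueField x) ⟶ (pullback f ι : Scheme.{u}) := pullback.lift (X.fromSpecResidueField x) t ht.symm
      let c := IsLocalRing.closedPoint (X.residueField x)
      refine ⟨l c, ?_, fun z hz => ?_⟩
      · rw [← Scheme.Hom.comp_apply, pullback.lift_fst, Scheme.fromSpecResidueField_apply]
      let r : X.residueField x ⟶ (pullback f ι : Scheme.{u}).residueField z := (X.residueFieldCongr hz.symm).hom ≫ p.residueFieldMap z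
      have h1 : Spec.map r ≫ l = (pullback f ι : Scheme.{u}).fromSpecResidueField z := by
        have hs : (Spec.map r ≫ l) ≫ q = Spec.map r ≫ t := by
          rw [Category.assoc]; exact congrArg (fun u => Spec.map r ≫ u) (pullback.lift_snd _ _ _)
        have hp' : (Spec.map r ≫ l) ≫ p = (pullback f ι : Scheme.{u}).fromSpecResidueField z ≫ p := by
          rw [Category.assoc, ← Scheme.Hom.SpecMap_residueFieldMap_fromSpecResidueField p z,
            show l ≫ p = X.fromSpecResidueField x from pullback.lift_fst _ _ _, Spec.map_comp, Category.assoc,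
            Scheme.residueFieldCongr_fromSpecResidueField]
        have hι : (Spec.map r ≫ t) ≫ ι = ((pullback f ι : Scheme.{u}).fromSpecResidueField z ≫ q) ≫ ι := by
          rw [Category.assoc, ht, Category.assoc, show q ≫ ι = p ≫ f from pullback.condition.symm, Spec.map_comp,
            Category.assoc, Scheme.residueFieldCongr_fromSpecResidueField_assoc,
            Scheme.Hom.SpecMap_residueFieldMap_fromSpecResidueField_assoc]
        refine pullback.hom_ext hp' (hs.trans (eq_of_comp_eq ι n (F := (pullback f ι : Scheme.{u}).residueField z) _ _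
          (fun w => ?_) (fun w => ?_) hι))
        · simp only [t, Scheme.Hom.comp_apply]
          exact Scheme.fromSpecResidueField_apply _ _
        · exact (congrArg q (Scheme.fromSpecResidueField_apply z w)).trans (hq z (hz ▸ hx))
      have hzl : z = l c := by
        let d := IsLocalRing.closedPoint ((pullback f ι : Scheme.{u}).residueField z)
        have e := Scheme.fromSpecResidueField_apply z d
        rw [← h1, Scheme.Hom.comp_apply] at e
        exact e.symm.trans (congrArg l (Subsingleton.elim _ _))
      refine ⟨hzl, ?_⟩
      obtain ⟨m, hm⟩ := exists_factor z (F := X.residueField x) l hzl.symm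
      have h2 : m ≫ r = 𝟙 _ := by
        apply Spec.map_injective
        rw [Spec.map_id, ← cancel_mono ((pullback f ι : Scheme.{u}).fromSpecResidueField z), Category.id_comp,
          Spec.map_comp, Category.assoc]
        exact (congrArg (fun u => Spec.map r ≫ u) hm).symm.trans h1
      have hr : Function.Surjective r := fun a => ⟨(m) a, congr($h2 a)⟩
      exact fun a => by
        obtain ⟨b, hb⟩ := hr a
        exact ⟨_, hb⟩
    obtain ⟨z₀, hz₀, huniq⟩ := key _ hfξ
    have hdense : ∀ W : Set ↥(pullback f ι : Scheme.{u}), IsOpen W → W.Nonempty → z₀ ∈ W := by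
      rintro W hW ⟨w, hw⟩
      have hqopen : IsOpen (q '' W) := q.isOpenMap W hW
      obtain ⟨z, hzW, hzn⟩ : n ∈ q '' W :=
        ((genericPoint_spec (Curv2.normalization Y)).mem_open_set_iff hqopen).2 ⟨q w, trivial, w, hw, rfl⟩
      have hfz : f (p z) = genericPoint Y := by
        rw [← Scheme.Hom.comp_apply, pullback.condition, Scheme.Hom.comp_apply]
        exact (congrArg ι hzn).trans hιn
      have hclosed : IsClosed (p '' closure {z₀}) := p.isClosedMap _ isClosed_closure
      have hall : ∀ x, x ∈ p '' closure {z₀} := fun x =>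
        hclosed.closure_subset_iff.2 (Set.singleton_subset_iff.2 ⟨z₀, subset_closure rfl, hz₀⟩)
          ((genericPoint_specializes x).mem_closure)
      obtain ⟨z', hz', hpz'⟩ := hall (p z)
      obtain ⟨w₀, -, hu⟩ := key (p z) hfz
      have : z' = z := ((hu z' hpz').1).trans ((hu z rfl).1).symm
      subst this
      exact (specializes_iff_mem_closure.2 hz').mem_open hW hzW
    haveI : IrreducibleSpace ↥(pullback f ι : Scheme.{u}) :=
      { toPreirreducibleSpace := ⟨fun U V hU hV hUn hVn => ⟨z₀, trivial, hdense U hU (by simpa using hUn),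
          hdense V hV (by simpa using hVn)⟩⟩
        toNonempty := ⟨z₀⟩ }
    have hgen : genericPoint (pullback f ι : Scheme.{u}) = z₀ := by
      refine IsGenericPoint.eq (genericPoint_spec (pullback f ι : Scheme.{u})) ?_
      refine Set.eq_univ_of_forall fun z => ?_
      rw [mem_closure_iff]
      exact fun U hU hz => ⟨z₀, hdense U hU ⟨z, hz⟩, rfl⟩
    refine ⟨inferInstance, ?_, ?_⟩
    · ext z
      show p z = genericPoint X ↔ z = genericPoint (pullback f ι : Scheme.{u})
      rw [hgen]
      exact ⟨fun h => (huniq z h).1, fun h => h ▸ hz₀⟩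
    · haveI : IsReduced (pullback f ι : Scheme.{u}) := by
        haveI : ∀ z, _root_.IsReduced ((pullback f ι : Scheme.{u}).presheaf.stalk z) := fun z => by
          obtain ⟨_, _⟩ := (EtAlgEasy.SmoothStalk.normal_iff q (x := z) (by rw [q.smoothLocus_eq_top]; trivial)).2 (hN _)
          infer_instance
        exact isReduced_of_isReduced_stalk (pullback f ι : Scheme.{u})
      haveI : IsIntegral (pullback f ι : Scheme.{u}) := isIntegral_of_irreducibleSpace_of_isReduced (pullback f ι : Scheme.{u})
      have hp : p (genericPoint (pullback f ι : Scheme.{u})) = genericPoint X := hgen ▸ hz₀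
      refine (ConcreteCategory.isIso_iff_bijective _).2 ⟨?_, NormalSch.stalkMap_surjective_of_residueFieldMap _
        (huniq _ hp).2⟩
      letI : Field (X.presheaf.stalk (p (genericPoint (pullback f ι : Scheme.{u})))) :=
        (show IsField (X.presheaf.stalk (p (genericPoint (pullback f ι : Scheme.{u})))) from hp.symm ▸ Field.toIsField X.functionField).toField
      exact RingHom.injective (p.stalkMap _).hom

end Groth.Agent.SmoothNormLib
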